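import Cfsg.Agent.H902.Facts
import Cfsg.Agent.H902.Names
import Cfsg.Prelude.Def_Blocks
import Cfsg.Prelude.Def_CaseTheorems
import Cfsg.Prelude.Def_KGroupFacts
import Cfsg.Prelude.Def_LieTypeChar
import Cfsg.Prelude.Def_Classical

/-!
# S4907: classical quasisimple groups are determined by their degrees. Definitions (helper700)

Plan: `tools/plans/S4907_helper700.md`.
-/

set_option autoImplicit false

namespace Cfsg.Agent.H700.DM

open Cfsg
open Cfsg.Agent.H902.Art (Sh)

universe u v

/-- the `p`-part of the order of `G` -/
noncomputable abbrev pt (p : ℕ) (G : Type*) : ℕ := p ^ (Nat.card G).factorization p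

/-- every irreducible character has degree one or degree at least `B` -/
def LowDeg (B : ℕ) (G : Type*) [Group G] : Prop :=
  ∀ χ : IrrCharacter G, charDegree (χ : G → ℂ) = 1 ∨ B ≤ charDegree (χ : G → ℂ)

/-- `n` is an irreducible degree -/
def HasDeg (n : ℕ) (G : Type*) [Group G] : Prop := ∃ χ : IrrCharacter G, charDegree (χ : G → ℂ) = n

/-- an irreducible degree which is a power of `p` is `1` or `|G|_p` -/
def PowDeg (p : ℕ) (G : Type*) [Group G] : Prop :=
  ∀ (χ : IrrCharacter G) (a : ℕ), charDegree (χ : G → ℂ) = p ^ a → p ^ a = 1 ∨ p ^ a = pt p G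

/-- degree preserving bijection of the irreducible characters -/
def SameDeg (G : Type*) (H : Type*) [Group G] [Group H] : Prop :=
  ∃ f : IrrCharacter G ≃ IrrCharacter H, ∀ χ : IrrCharacter G, charDegree ((f χ) : H → ℂ) = charDegree (χ : G → ℂ)

/-- the package of properties of the degrees of `G` used in the main argument -/
structure Pkg (p B : ℕ) (G : Type*) [Group G] : Prop where
  perf : Group.IsPerfect G
  st : HasDeg (pt p G) G
  pow : PowDeg p G
  low : LowDeg B G
  size : Nat.card G < 2 * (B + 1) * pt p G ^ 2

/-- the Lie rank of the classical shapes -/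
def rk : Sh → ℕ
  | .L n => n - 1
  | .C n => n
  | .U n => n - 1
  | .D n => n
  | .DD n => n
  | _ => 0

/-- the classical shapes -/
def IsCl : Sh → Prop
  | .L _ => True
  | .C _ => True
  | .U _ => True
  | .D _ => True
  | .DD _ => True
  | _ => False

/-- the lower bound for the degrees -/
def lb (X : Sh) (q : ℕ) : ℕ := (q ^ rk X - 1) / 2

/-- `H` is quasisimple, `H / Z(H)` is the group named `g`, of Lie type of characteristic `p` of classical shape `X` over
the field with `p ^ f` elements, and the order of the centre of `H` is prime to `p` and divides the order of the centre of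
the simply connected group. -/
structure Good (g : OrdDiv.Grp) (X : Sh) (p f : ℕ) (H : Type*) [Group H] : Prop where
  cl : IsCl X
  isLie : H902.Names.IsLie g X p f
  name : OrdDiv.Real g (H ⧸ Subgroup.center H)
  real : H902.Art.Real X p f (Nat.card (H ⧸ Subgroup.center H))
  lie : IsLieTypeChar p (H ⧸ Subgroup.center H)
  quasi : IsQuasisimple H
  cop : ¬ p ∣ Nat.card (Subgroup.center H)
  dvd : Nat.card (Subgroup.center H) ∣ H902.Art.dd X (p ^ f)

end Cfsg.Agent.H700.DM
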