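import Cfsg.Agent.H700.DM.Defs
import Cfsg.Agent.H78.CodB
import Cfsg.Agent.H142.McKayCount
import Cfsg.Agent.H587.AA.Cyc
import Cfsg.Agent.Characters.Linear

/-!
# Consequences of equal degrees
-/

set_option autoImplicit false

namespace Cfsg.Agent.H700.DM

open Cfsg

universe u v

variable {G : Type u} {H : Type v} [Group G] [Group H]

theorem SameDeg.symm (h : SameDeg G H) : SameDeg H G := by
  obtain ⟨f, hf⟩ := h
  refine ⟨f.symm, fun χ => ?_⟩
  have := hf (f.symm χ)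
  rw [f.apply_symm_apply] at this
  exact this.symm

theorem SameDeg.hasDeg (h : SameDeg G H) {n : ℕ} : HasDeg n G ↔ HasDeg n H := by
  obtain ⟨f, hf⟩ := h
  constructor
  · rintro ⟨χ, hχ⟩; exact ⟨f χ, (hf χ).trans hχ⟩
  · rintro ⟨χ, hχ⟩
    refine ⟨f.symm χ, ?_⟩
    rw [← hf, f.apply_symm_apply, hχ]

theorem lowDeg_iff {B : ℕ} : LowDeg B G ↔ ∀ n, HasDeg n G → n = 1 ∨ B ≤ n :=
  ⟨fun h _ ⟨χ, hχ⟩ => hχ ▸ h χ, fun h χ => h _ ⟨χ, rfl⟩⟩

theorem powDeg_iff {p : ℕ} : PowDeg p G ↔ ∀ a, HasDeg (p ^ a) G → p ^ a = 1 ∨ p ^ a = pt p G :=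
  ⟨fun h a ⟨χ, hχ⟩ => h χ a hχ, fun h χ a hχ => h a ⟨χ, hχ⟩⟩

theorem LowDeg.mono {B B' : ℕ} (h : LowDeg B G) (hB : B' ≤ B) : LowDeg B' G := fun χ => (h χ).imp_right hB.trans

/-- equal degrees: equal orders -/
theorem SameDeg.card_eq [Finite G] [Finite H] (h : SameDeg G H) : Nat.card G = Nat.card H := by
  classical
  obtain ⟨f, hf⟩ := h
  have := Characters.Core.finite_irr (G := G)
  have := Characters.Core.finite_irr (G := H)
  have := Fintype.ofFinite (IrrCharacter G)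
  have := Fintype.ofFinite (IrrCharacter H)
  rw [← H142.McKayCount.sum_deg_sq, ← H142.McKayCount.sum_deg_sq]
  exact Fintype.sum_equiv f _ _ fun χ => by rw [hf]

theorem SameDeg.pt_eq [Finite G] [Finite H] (h : SameDeg G H) (p : ℕ) : pt p G = pt p H := by
  unfold pt; rw [h.card_eq]

/-! ### linear characters -/

theorem charDegree_one : charDegree (1 : G → ℂ) = 1 :=
  Blocks.Basic.charDegree_of_eq (n := 1) (by simp)

theorem isIrr_one : IsIrrCharacter G (1 : G → ℂ) := by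
  have := Characters.Linear.isIrrCharacter_hom (1 : G →* ℂˣ)
  exact (by simpa using this : IsIrrCharacter G fun _ => (1 : ℂ))

theorem eq_one_of_degree (hG : Group.IsPerfect G) {χ : IrrCharacter G} (h : charDegree (χ : G → ℂ) = 1) :
    (χ : G → ℂ) = 1 := by
  by_contra h1
  obtain ⟨n, hn, hn1⟩ := H587.AA.two_le_degree hG.commutator_eq_top χ.2 h1
  rw [Blocks.Basic.charDegree_of_eq hn1] at h
  omega

theorem exists_hom_ne_one [Finite G] (h : ¬ Group.IsPerfect G) : ∃ f : G →* ℂˣ, f ≠ 1 := by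
  have h1 : ∃ g : G, g ∉ commutator G := by
    by_contra hc
    push Not at hc
    exact h ⟨(Subgroup.eq_top_iff' _).2 hc⟩
  obtain ⟨g, hg⟩ := h1
  have : NeZero (Monoid.exponent (Abelianization G)) := ⟨Monoid.exponent_ne_zero_of_finite⟩
  have hne : Abelianization.of g ≠ 1 := by
    intro h2
    exact hg ((QuotientGroup.eq_one_iff g).1 h2)
  obtain ⟨φ, hφ⟩ := CommGroup.exists_apply_ne_one_of_hasEnoughRootsOfUnity (Abelianization G) ℂ hne
  refine ⟨φ.comp Abelianization.of, fun h3 => hφ ?_⟩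
  have := DFunLike.congr_fun h3 g
  exact this

/-- equal degrees: perfect groups -/
theorem SameDeg.perfect [Finite G] (h : SameDeg G H) (hH : Group.IsPerfect H) : Group.IsPerfect G := by
  by_contra hG
  obtain ⟨l, hl⟩ := exists_hom_ne_one hG
  obtain ⟨f, hf⟩ := h
  have h1 : charDegree (fun g => ((l g : ℂˣ) : ℂ)) = 1 :=
    Blocks.Basic.charDegree_of_eq (n := 1) (by simp)
  let χ : IrrCharacter G := ⟨fun g => (l g : ℂ), Characters.Linear.isIrrCharacter_hom l⟩
  let ψ : IrrCharacter G := ⟨1, isIrr_one⟩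
  have h2 : ((f χ : IrrCharacter H) : H → ℂ) = 1 := eq_one_of_degree hH ((hf χ).trans h1)
  have h3 : ((f ψ : IrrCharacter H) : H → ℂ) = 1 := eq_one_of_degree hH ((hf ψ).trans charDegree_one)
  have h4 : χ = ψ := f.injective (Subtype.ext (h2.trans h3.symm))
  apply hl
  ext g
  have h5 := congrFun (congrArg Subtype.val h4) g
  simpa [χ, ψ] using h5

theorem SameDeg.pkg [Finite G] [Finite H] (h : SameDeg G H) {p B : ℕ} (hH : Pkg p B H) : Pkg p B G where
  perf := h.perfect hH.perf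
  st := by rw [h.pt_eq]; exact h.hasDeg.2 hH.st
  pow := by
    rw [powDeg_iff, h.pt_eq]
    exact fun a ha => powDeg_iff.1 hH.pow a (h.hasDeg.1 ha)
  low := lowDeg_iff.2 fun n hn => lowDeg_iff.1 hH.low n (h.hasDeg.1 hn)
  size := by rw [h.card_eq, h.pt_eq]; exact hH.size

/-- a proper subgroup has index at least `B + 1` -/
theorem LowDeg.index [Finite G] {B : ℕ} (h : LowDeg B G) (hG : Group.IsPerfect G) {X : Subgroup G} (hX : X ≠ ⊤) :
    B + 1 ≤ X.index := by
  obtain ⟨χ, h1, h2, -⟩ := H78.CodB.exists_constituent hX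
  rcases h χ with h3 | h3
  · exact absurd (eq_one_of_degree hG h3) h1
  · omega

/-- inflation of degrees -/
theorem HasDeg.inflate {n : ℕ} {f : G →* H} (hf : Function.Surjective f) (h : HasDeg n H) : HasDeg n G := by
  obtain ⟨χ, hχ⟩ := h
  refine ⟨⟨(χ : H → ℂ) ∘ f, Characters.Core.isIrr_comp f hf χ.2⟩, ?_⟩
  rw [← hχ]
  unfold charDegree
  simp

theorem HasDeg.congr {n : ℕ} (e : G ≃* H) (h : HasDeg n H) : HasDeg n G := h.inflate (f := e.toMonoidHom) e.surjective

theorem LowDeg.quotient {B : ℕ} (h : LowDeg B G) {f : G →* H} (hf : Function.Surjective f) : LowDeg B H :=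
  lowDeg_iff.2 fun n hn => lowDeg_iff.1 h n (hn.inflate hf)

theorem SameDeg.trans {K : Type*} [Group K] (h : SameDeg G H) (h' : SameDeg H K) : SameDeg G K := by
  obtain ⟨f, hf⟩ := h
  obtain ⟨f', hf'⟩ := h'
  exact ⟨f.trans f', fun χ => (hf' _).trans (hf _)⟩

theorem SameDeg.of_equiv (e : G ≃* H) : SameDeg G H := by
  refine ⟨⟨fun χ => ⟨(χ : G → ℂ) ∘ e.symm, Characters.Core.isIrr_comp e.symm.toMonoidHom e.symm.surjective χ.2⟩,
    fun χ => ⟨(χ : H → ℂ) ∘ e, Characters.Core.isIrr_comp e.toMonoidHom e.surjective χ.2⟩, fun χ => ?_, fun χ => ?_⟩,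
    fun χ => ?_⟩
  · apply Subtype.ext; funext g; simp
  · apply Subtype.ext; funext g; simp
  · change charDegree ((χ : G → ℂ) ∘ e.symm) = _
    unfold charDegree
    simp

end Cfsg.Agent.H700.DM
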