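import Cfsg.Agent.H700.DM.GoodFinal
import Cfsg.Agent.H551.DM.Disp
import Cfsg.Agent.H946.DM.Ident
import Cfsg.Agent.H733.DM.GlueD
import Cfsg.Agent.H124.DM.TwoCovers
import Cfsg.Agent.H294.DM.RowA6
import Cfsg.Agent.H932.DM.RowA8

/-!
# S4907, assembly
-/

set_option autoImplicit false

namespace Cfsg.Agent.H700.DM

open Cfsg Cfsg.Agent.H902.Names
open Cfsg.Agent.H902.Art (Sh)

universe u v

theorem idt : Idt.{u, v} := by
  intro S _ _ X p f hX hS G _ _ hG hN hp z' hz' hP hM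
  exact H946.DM.ident hX hS hG hN hp hz' hP hM

theorem all {G : Type u} {H : Type v} [Group G] [Finite G] [Group H] [Finite H] (hH : IsQuasisimple H)
    (hcl : IsPSL (H ⧸ Subgroup.center H) ∨ IsPSp (H ⧸ Subgroup.center H) ∨ IsPSU (H ⧸ Subgroup.center H) ∨
      IsPOmegaOdd (H ⧸ Subgroup.center H) ∨ IsPOmegaPlus (H ⧸ Subgroup.center H) ∨
      IsPOmegaMinus (H ⧸ Subgroup.center H))
    (hex1 : ∀ (F : Type) [Field F] [Fintype F], Fintype.card F = 4 →
      IsEmpty ((H ⧸ Subgroup.center H) ≃* Matrix.ProjectiveSpecialLinearGroup (Fin 3) F))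
    (hex2 : Nat.card (H ⧸ Subgroup.center H) ≠ 3265920) (hd : SameDeg G H)
    -- DM35
    (ha8 : ∀ {p : ℕ} {n : OrdDiv.Grp} {X : Sh} {f : ℕ}, Good n X p f H → ∀ (F : Type) [Field F] [Fintype F],
      Fintype.card F = 4 → IsQuasisimple G →
      (G ⧸ Subgroup.center G ≃* Matrix.ProjectiveSpecialLinearGroup (Fin 3) F) →
      ¬ p ∣ Nat.card (Subgroup.center G) → (H ⧸ Subgroup.center H ≃* ↥(alternatingGroup (Fin 8))) → False)
    (hbc : ∀ {p : ℕ} {n : OrdDiv.Grp} {X : Sh} {f : ℕ}, Good n X p f H → ∀ (F : Type) [Field F] [Fintype F] (n : ℕ),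
      Odd (Fintype.card F) → 3 ≤ n → IsQuasisimple G → ¬ p ∣ Nat.card (Subgroup.center G) →
      ((Nonempty (G ⧸ Subgroup.center G ≃* POmega F (quadFormOdd n F)) ∧
          Nonempty (H ⧸ Subgroup.center H ≃* PSp n F)) ∨
        (Nonempty (H ⧸ Subgroup.center H ≃* POmega F (quadFormOdd n F)) ∧
          Nonempty (G ⧸ Subgroup.center G ≃* PSp n F))) → False)
    -- DM30
    (hno : ∀ (m : ℕ) (F : Type) [Field F] [Fintype F], Odd (Fintype.card F) → 6 ≤ m → Even m →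
      ∀ {A : Type u} {B : Type v} [Group A] [Finite A] [Group B] [Finite B], IsQuasisimple B →
      (A ≃* ↥(Omega F (quadFormPlus m F))) →
      (B ⧸ Subgroup.center B ≃* POmega F (quadFormPlus m F)) → Nat.card (Subgroup.center B) = 2 →
      ¬ Nonempty (B ≃* ↥(Omega F (quadFormPlus m F))) → ¬ SameDeg A B)
    (hno' : ∀ (m : ℕ) (F : Type) [Field F] [Fintype F], Odd (Fintype.card F) → 6 ≤ m → Even m →
      ∀ {A : Type v} {B : Type u} [Group A] [Finite A] [Group B] [Finite B], IsQuasisimple B →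
      (A ≃* ↥(Omega F (quadFormPlus m F))) →
      (B ⧸ Subgroup.center B ≃* POmega F (quadFormPlus m F)) → Nat.card (Subgroup.center B) = 2 →
      ¬ Nonempty (B ≃* ↥(Omega F (quadFormPlus m F))) → ¬ SameDeg A B)
    -- DM22, DM23, DM24, DM26
    (hsp : 2 ∣ Nat.card (Subgroup.center H) → ∀ (F : Type) [Field F] [Fintype F], Fintype.card F = 2 →
      (H ⧸ Subgroup.center H ≃* PSp 3 F) → Nonempty (G ≃* H))
    (ho7 : 3 ∣ Nat.card (Subgroup.center H) → ∀ (F : Type) [Field F] [Fintype F], Fintype.card F = 3 →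
      (H ⧸ Subgroup.center H ≃* POmega F (quadFormOdd 3 F)) → Nonempty (G ≃* H))
    (ho8 : 2 ∣ Nat.card (Subgroup.center H) → ∀ (F : Type) [Field F] [Fintype F], Fintype.card F = 2 →
      (H ⧸ Subgroup.center H ≃* POmega F (quadFormPlus 4 F)) → Nonempty (G ≃* H))
    (hu6 : 2 ∣ Nat.card (Subgroup.center H) → ∀ (F : Type) [Field F] [Fintype F], Fintype.card F = 4 →
      (H ⧸ Subgroup.center H ≃* PSU 6 F 2) → Nonempty (G ≃* H)) : Nonempty (G ≃* H) := by
  rcases H551.DM.dispatch hH hcl hex1 hex2 with ⟨g, X, p, f, hg⟩ | hE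
  · refine good_final idt hg hd hex1 (ha8 hg) (hbc hg) ?_
    intro m F _ _ hF hodd hev hm hq eG eH cG cH
    have ho : Odd (Fintype.card F) := by rw [hF]; exact hodd.pow
    refine H733.DM.iso_D_of_no_same hm hev hd (H124.DM.two_covers ho hm hev hq hH eG eH cG cH) ?_ ?_
    · intro h6 e hn
      exact hno m F ho h6 hev hH e eH cH hn
    · intro h6 e hn
      exact hno' m F ho h6 hev hq e eG cG hn
  · rcases hE with ⟨h, ⟨e⟩⟩ | ⟨h, ⟨e⟩⟩ | ⟨h, F, _, _, hF, ⟨e⟩⟩ | ⟨h, F, _, _, hF, ⟨e⟩⟩ | ⟨h, F, _, _, hF, ⟨e⟩⟩ |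
      ⟨h, F, _, _, hF, ⟨e⟩⟩
    · exact H294.DM.row_a6 (fun K _ _ _ => S0000.result) hH e h hd
    · exact H932.DM.row_a8 OrdDiv.table (fun K _ _ _ => S0000.result) hH e h hd
    · exact hsp h F hF e
    · exact ho7 h F hF e
    · exact ho8 h F hF e
    · exact hu6 h F hF e

end Cfsg.Agent.H700.DM
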