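import Cfsg.Agent.H700.DM.GoodPkg
import Cfsg.Agent.H7.DM.WeilDeg
import Cfsg.Agent.H604.DM.Gen
import Cfsg.Agent.H902.Cross
import Cfsg.Agent.S0256

/-!
# The coincidences of orders: `A₈`, `L₃(4)` and `PSp_{2m}(q)`, `Ω_{2m+1}(q)`
-/

set_option autoImplicit false

namespace Cfsg.Agent.H700.DM

open Cfsg Cfsg.Agent.H902.Names
open Cfsg.Agent.H902.Art (Sh)

universe u v

variable {G : Type u} {H : Type v} [Group G] [Finite G] [Group H] [Finite H]

theorem char_eq {X Y : Sh} {p f r g M : ℕ} (h : H902.Art.Real X p f M) (h' : H902.Art.Real Y r g M)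
    (h60 : M ≠ 60) (h168 : M ≠ 168) (h25920 : M ≠ 25920) : p = r := by
  by_contra hne
  rcases H902.Art.cross_char h h' hne with h1 | h1 | h1
  · exact h60 h1
  · exact h168 h1
  · exact h25920 h1

theorem a8_ne {p : ℕ} {n : OrdDiv.Grp} {X : Sh} {f : ℕ} (hg : Good n X p f H) {F : Type} [Field F] [Fintype F]
    (hF : Fintype.card F = 4) (hq : IsQuasisimple G)
    (eG : G ⧸ Subgroup.center G ≃* Matrix.ProjectiveSpecialLinearGroup (Fin 3) F)
    (hc : ¬ p ∣ Nat.card (Subgroup.center G)) (eH : H ⧸ Subgroup.center H ≃* ↥(alternatingGroup (Fin 8))) :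
    ¬ SameDeg G H := by
  intro hd
  have hR : H902.Art.Real (.L 3) 2 2 20160 :=
    ⟨Nat.prime_two, by norm_num, ⟨by norm_num, by norm_num⟩, by decide +kernel⟩
  have hcard : Nat.card (H ⧸ Subgroup.center H) = 20160 := by
    rw [Nat.card_congr eH.toEquiv]
    have h1 := nat_card_alternatingGroup (α := Fin 8)
    rw [Nat.card_fin] at h1
    rw [h1]; decide
  have hR' := hg.real
  rw [hcard] at hR'
  have hp : p = 2 := char_eq hR' hR (by norm_num) (by norm_num) (by norm_num)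
  subst hp
  have : Fact (Nat.Prime 2) := ⟨Nat.prime_two⟩
  have : CharP F 2 := charP_of_card (f := 2) (by norm_num) (by rw [hF]; norm_num)
  have hlow := H887.DM.low_psl hq hc (show 3 ≤ 3 from le_rfl) eG
  rw [hF] at hlow
  have h7 : HasDeg 7 H :=
    ((H604.DM.hasDeg_alt (n := 8) (by norm_num)).congr eH).inflate
      (f := QuotientGroup.mk' (Subgroup.center H)) (QuotientGroup.mk'_surjective _)
  have h7' : HasDeg 7 G := hd.hasDeg.2 h7
  rcases lowDeg_iff.1 hlow 7 h7' with h | h <;> norm_num at h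

theorem ne_of_real {m r g M : ℕ} (hr : Odd (r ^ g)) (h : H902.Art.Real (.C m) r g M) (hm : 3 ≤ m) :
    M ≠ 60 ∧ M ≠ 168 ∧ M ≠ 25920 := by
  have hrp := h.hp
  have hg := h.hf
  have hr3 : 3 ≤ r := by
    have h2 : r ≠ 2 := by
      rintro rfl
      exact (Nat.not_even_iff_odd.2 hr) ((Nat.even_pow.2 ⟨even_two, by omega⟩))
    have := hrp.two_le
    omega
  have hd : H902.Art.dd (.C m) (r ^ g) ∣ 2 := Nat.gcd_dvd_left _ _
  have h9 : r ^ 9 ∣ M := by
    have h1 : r ^ 9 ∣ H902.Art.dd (.C m) (r ^ g) * M := by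
      rw [h.eq]
      refine Dvd.dvd.mul_right ?_ _
      rw [← pow_mul]
      apply pow_dvd_pow
      change 9 ≤ g * m ^ 2
      nlinarith [Nat.mul_le_mul hg (Nat.pow_le_pow_left hm 2)]
    refine Nat.Coprime.dvd_of_dvd_mul_left ?_ h1
    apply Nat.Coprime.pow_left
    rw [Nat.Prime.coprime_iff_not_dvd hrp]
    intro h2
    have := Nat.le_of_dvd (by norm_num) (h2.trans hd)
    omega
  have h8 : 3 ^ 9 ≤ r ^ 9 := Nat.pow_le_pow_left hr3 9
  have hM := h.M_ne
  refine ⟨?_, ?_, ?_⟩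
  · rintro rfl
    have := Nat.le_of_dvd (by norm_num) h9
    norm_num at h8 this; omega
  · rintro rfl
    have := Nat.le_of_dvd (by norm_num) h9
    norm_num at h8 this; omega
  · rintro rfl
    by_cases h3 : r = 3
    · subst h3
      norm_num at h9
    · have h4 : 4 ≤ r := by omega
      have h5 : 4 ^ 9 ≤ r ^ 9 := Nat.pow_le_pow_left h4 9
      have := Nat.le_of_dvd (by norm_num) h9
      norm_num at h5 this; omega

theorem bc_step {p : ℕ} {n : OrdDiv.Grp} {X : Sh} {f : ℕ} (hg : Good n X p f H) {F : Type} [Field F] [Fintype F]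
    {m : ℕ} (ho : Odd (Fintype.card F)) (hm : 3 ≤ m) (hq : IsQuasisimple G)
    (hc : ¬ p ∣ Nat.card (Subgroup.center G))
    (h : (Nonempty (G ⧸ Subgroup.center G ≃* POmega F (quadFormOdd m F)) ∧
          Nonempty (H ⧸ Subgroup.center H ≃* PSp m F)) ∨
        (Nonempty (H ⧸ Subgroup.center H ≃* POmega F (quadFormOdd m F)) ∧
          Nonempty (G ⧸ Subgroup.center G ≃* PSp m F))) : ¬ SameDeg G H := by
  intro hd
  obtain ⟨r, g, hr, hg1, hF⟩ := exists_pp F
  have ho' : Odd (r ^ g) := hF ▸ ho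
  have : Fact r.Prime := ⟨hr⟩
  have : CharP F r := charP_of_card hg1 hF
  rcases h with ⟨⟨eG⟩, ⟨eH⟩⟩ | ⟨⟨eH⟩, ⟨eG⟩⟩
  · have hR : H902.Art.Real (.C m) r g (Nat.card (H ⧸ Subgroup.center H)) := by
      rw [Nat.card_congr eH.toEquiv]
      exact psp_real hr hg1 hF (by omega) (by omega)
    obtain ⟨h1, h2, h3⟩ := ne_of_real ho' hR hm
    have hpr := char_eq hg.real hR h1 h2 h3
    subst hpr
    have hlow := H887.DM.low_oodd hq hc hm ho eG
    exact H7.DM.WeilDeg.bc_ne (by omega) ho eH hlow hd.symm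
  · have hR : H902.Art.Real (.C m) r g (Nat.card (H ⧸ Subgroup.center H)) := by
      rw [Nat.card_congr eH.toEquiv]
      exact oodd_real hr hg1 hF hm ho'
    obtain ⟨h1, h2, h3⟩ := ne_of_real ho' hR hm
    have hpr := char_eq hg.real hR h1 h2 h3
    subst hpr
    have hlow := H887.DM.low_oodd hg.quasi hg.cop hm ho eH
    exact H7.DM.WeilDeg.bc_ne (by omega) ho eG hlow hd

end Cfsg.Agent.H700.DM
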