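import Cfsg.Agent.H700.DM.Main
import Cfsg.Agent.H451.EqD.IsClSix
import Cfsg.Agent.H887.DM.Low
import Cfsg.Agent.H167.HasStLie

/-!
# The package for the nonexceptional covers of the classical groups
-/

set_option autoImplicit false

namespace Cfsg.Agent.H700.DM

open Cfsg Cfsg.Agent.H902.Names
open Cfsg.Agent.H902.Art (Sh)

universe u v

variable {H : Type u} [Group H] [Finite H] {n : OrdDiv.Grp} {X : Sh} {p f : ℕ}

theorem charP_of_card {F : Type} [Field F] [Fintype F] {p f : ℕ} [hp : Fact p.Prime] (hf : 1 ≤ f)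
    (h : Fintype.card F = p ^ f) : CharP F p := by
  obtain ⟨r, hr⟩ := CharP.exists F
  have hr' : r.Prime := CharP.char_is_prime F r
  have : Fact r.Prime := ⟨hr'⟩
  obtain ⟨k, -, hk⟩ := FiniteField.card F r
  have h1 : r ∣ p ^ f := by rw [← h, hk]; exact dvd_pow_self r k.ne_zero
  have h2 : r = p := (Nat.prime_dvd_prime_iff_eq hr' hp.out).1 (hr'.dvd_of_dvd_pow h1)
  exact h2 ▸ hr

theorem Good.low (h : Good n X p f H) : LowDeg (lb X (p ^ f)) H := by
  have : Fact p.Prime := ⟨h.real.hp⟩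
  have hf := h.real.hf
  have hok := h.real.ok
  have hn := h.name
  have hcl := h.cl
  have hq := h.quasi
  have hc := h.cop
  rcases h with ⟨-, hl, -, -, -, -, -, -⟩
  cases hl with
  | psl n p f =>
    obtain ⟨F, _, _, hF, ⟨e⟩⟩ := hn
    have := charP_of_card hf hF
    have h1 := H887.DM.low_psl' hq hc (show 2 ≤ n from hok.1) e
    rw [hF] at h1
    exact h1
  | psp n p f =>
    obtain ⟨F, _, _, hF, ⟨e⟩⟩ := hn
    have := charP_of_card hf hF
    have h2 : 2 ≤ n := hok.1
    have h1 := H887.DM.low_psp hq hc (show 1 ≤ n by omega) e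
    rw [hF] at h1
    exact h1
  | oodd n p f hn' ho =>
    obtain ⟨F, _, _, hF, ⟨e⟩⟩ := hn
    have := charP_of_card hf hF
    have h1 := H887.DM.low_oodd hq hc hn' (by rw [hF]; exact ho) e
    rw [hF] at h1
    exact h1.mono (H887.DM.half_le _ _)
  | psu n p f =>
    obtain ⟨F, _, _, hF, ⟨e⟩⟩ := hn
    have hF' : Fintype.card F = p ^ (f * 2) := by rw [hF, ← pow_mul]
    have := charP_of_card (by omega) hF'
    have h1 := H887.DM.low_psu' hq hc hF (show 3 ≤ n from hok.1) e
    exact h1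
  | oplus n p f =>
    obtain ⟨F, _, _, hF, ⟨e⟩⟩ := hn
    have := charP_of_card hf hF
    have h1 := H887.DM.low_oplus hq hc (show 4 ≤ n from hok) e
    rw [hF] at h1
    exact h1.mono (H887.DM.half_le _ _)
  | ominus n p f =>
    obtain ⟨F, _, _, a, b, hF, hab, ⟨e⟩⟩ := hn
    have := charP_of_card hf hF
    have h1 := H887.DM.low_ominus hq hc (show 4 ≤ n from hok) hab e
    rw [hF] at h1
    exact h1.mono (H887.DM.half_le _ _)
  | _ => exact absurd hcl (by simp [IsCl])

theorem Good.st (h : Good n X p f H) : HasDeg (pt p H) H := by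
  have : Fact p.Prime := ⟨h.real.hp⟩
  have := h.quasi.2
  have h1 := H167.StChar.hasSt_of_lie h.real.hp h.lie
  have h2 : H167.StChar.HasSt p H := by
    refine h1.of_surjective (QuotientGroup.mk' (Subgroup.center H)) (QuotientGroup.mk'_surjective _) ?_
    rw [QuotientGroup.ker_mk']
    exact h.cop
  obtain ⟨χ, hχ, h3, -⟩ := h2
  exact ⟨⟨χ, hχ⟩, Blocks.Basic.charDegree_of_eq h3⟩

theorem Good.pkg (h : Good n X p f H) (hpow : PowDeg p H)
    (hsize : Nat.card H < 2 * (lb X (p ^ f) + 1) * pt p H ^ 2) : Pkg p (lb X (p ^ f)) H where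
  perf := h.quasi.1
  st := h.st
  pow := hpow
  low := h.low
  size := hsize

end Cfsg.Agent.H700.DM
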