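import Cfsg.Agent.H700.DM.Quasi
import Cfsg.Agent.H700.DM.GoodPkg
import Cfsg.Agent.H124.DM.GoodIso
import Cfsg.Agent.H150.DM.Clifford
import Cfsg.Agent.CTwoTab.Base

/-!
# The nonexceptional covers of the classical groups
-/

set_option autoImplicit false

namespace Cfsg.Agent.H700.DM

open Cfsg Cfsg.Agent.H902.Names
open Cfsg.Agent.H902.Art (Sh)

universe u v

/-- the statement of DM09 -/
def N1 : Prop := ∀ {S : Type u} [Group S] [Finite S] [IsSimpleGroup S], (¬ ∀ a b : S, a * b = b * a) →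
  ∀ {p : ℕ}, p.Prime → 2 * pt p S ^ 2 ≤ Nat.card S

/-- the statement of DM03 -/
def Inv : Prop := ∀ {G : Type u} [Group G] [Finite G] {p : ℕ} [Fact p.Prime], Group.IsPerfect G →
  ∀ (M : Subgroup G) [M.Normal] [Fintype M] {θ : M → ℂ} {χ : G → ℂ}, IsIrrCharacter M θ → IsIrrCharacter G χ →
    (∀ (g : G) (n : M), θ (MulAut.conjNormal g n) = θ n) → classInner (fun n : M => χ n) θ ≠ 0 →
    charDegree θ = pt p M → charDegree χ = pt p G → HasDeg (pt p (G ⧸ M)) G

/-- the statement of DM34 -/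
def Idt : Prop := ∀ {S : Type v} [Group S] [Finite S] {X : Sh} {p f : ℕ}, IsCl X → H902.Art.Real X p f (Nat.card S) →
  ∀ {G : Type u} [Group G] [Finite G], IsQuasisimple G → Nam (G ⧸ Subgroup.center G) →
    ¬ p ∣ Nat.card (Subgroup.center G) → ∀ {z' : ℕ}, z' ∣ H902.Art.dd X (p ^ f) →
    (Nat.card (G ⧸ Subgroup.center G)).factorization p = (Nat.card S).factorization p →
    Nat.card (G ⧸ Subgroup.center G) * Nat.card (Subgroup.center G) = Nat.card S * z' →
    Nat.card (G ⧸ Subgroup.center G) = Nat.card S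

/-- Artin's theorem -/
def Artin : Prop := ∀ {G : Type u} {M : Type v} [Group G] [Finite G] [IsSimpleGroup G] [Group M] [Finite M]
    [IsSimpleGroup M], Nat.card G = Nat.card M → Nonempty (G ≃* M) ∨
    ((Nonempty (G ≃* ↥(alternatingGroup (Fin 8))) ∧ ∃ (F : Type) (_ : Field F) (_ : Fintype F), Fintype.card F = 4 ∧ Nonempty (M ≃* Matrix.ProjectiveSpecialLinearGroup (Fin 3) F)) ∨
     (Nonempty (M ≃* ↥(alternatingGroup (Fin 8))) ∧ ∃ (F : Type) (_ : Field F) (_ : Fintype F), Fintype.card F = 4 ∧ Nonempty (G ≃* Matrix.ProjectiveSpecialLinearGroup (Fin 3) F))) ∨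
    (∃ (F : Type) (_ : Field F) (_ : Fintype F) (n : ℕ), Odd (Fintype.card F) ∧ 3 ≤ n ∧
      ((Nonempty (G ≃* Cfsg.POmega F (Cfsg.quadFormOdd n F)) ∧ Nonempty (M ≃* Cfsg.PSp n F)) ∨
       (Nonempty (M ≃* Cfsg.POmega F (Cfsg.quadFormOdd n F)) ∧ Nonempty (G ≃* Cfsg.PSp n F))))

theorem cliff_of (hinv : Inv.{u}) {G : Type u} [Group G] [Finite G] {p : ℕ} [Fact p.Prime] (hG : Group.IsPerfect G)
    (hst : HasDeg (pt p G) G) (M : Subgroup G) [M.Normal] : ∃ T : Subgroup G, M ≤ T ∧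
      T.index * Nat.card (G ⧸ M) * pt p G ^ 2 ≤ Nat.card G * pt p (G ⧸ M) ^ 2 ∧
        (T = ⊤ → HasDeg (pt p (G ⧸ M)) G) := by
  classical
  obtain ⟨T, h1, h2, h3⟩ := H150.DM.clifford M hst
  refine ⟨T, h1, h2, fun hT => ?_⟩
  have := Fintype.ofFinite M
  obtain ⟨θ, χ, hθ, hχ, h4, h5, h6, h7⟩ := h3 hT
  exact hinv hG M hθ hχ h6 h7 h4 h5

theorem factorization_of_pt {p : ℕ} (hp : p.Prime) {a b : ℕ} (h : p ^ a = p ^ b) : a = b :=
  Nat.pow_right_injective hp.two_le h

theorem pt_quot {p : ℕ} (hp : p.Prime) {H : Type v} [Group H] [Finite H] (hc : ¬ p ∣ Nat.card (Subgroup.center H)) :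
    pt p (H ⧸ Subgroup.center H) = pt p H := by
  have h1 := pt_mul (p := p) (Subgroup.center H)
  have h2 : pt p (Subgroup.center H) = 1 := by
    change p ^ (Nat.card (Subgroup.center H)).factorization p = 1
    rw [Nat.factorization_eq_zero_of_not_dvd hc, pow_zero]
  rw [h1, h2, one_mul]

/-- names are invariant under isomorphism (classical shapes) -/
theorem name_congr {S : Type u} {T : Type v} [Group S] [Group T] (e : S ≃* T) {n : OrdDiv.Grp} {X : Sh} {p f : ℕ}
    (hX : IsCl X) (hl : IsLie n X p f) (h : OrdDiv.Real n T) : OrdDiv.Real n S := by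
  cases hl with
  | psl n p f => obtain ⟨F, i1, i2, hF, ⟨e'⟩⟩ := h; exact ⟨F, i1, i2, hF, ⟨e.trans e'⟩⟩
  | psp n p f => obtain ⟨F, i1, i2, hF, ⟨e'⟩⟩ := h; exact ⟨F, i1, i2, hF, ⟨e.trans e'⟩⟩
  | oodd n p f hn' ho => obtain ⟨F, i1, i2, hF, ⟨e'⟩⟩ := h; exact ⟨F, i1, i2, hF, ⟨e.trans e'⟩⟩
  | psu n p f => obtain ⟨F, i1, i2, hF, ⟨e'⟩⟩ := h; exact ⟨F, i1, i2, hF, ⟨e.trans e'⟩⟩
  | oplus n p f => obtain ⟨F, i1, i2, hF, ⟨e'⟩⟩ := h; exact ⟨F, i1, i2, hF, ⟨e.trans e'⟩⟩
  | ominus n p f => obtain ⟨F, i1, i2, a, b, hF, hab, ⟨e'⟩⟩ := h; exact ⟨F, i1, i2, a, b, hF, hab, ⟨e.trans e'⟩⟩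
  | _ => exact absurd hX (by simp [IsCl])

/-- Everything except the last identification: same centre order, same order of the simple quotient. -/
theorem good_card (hN1 : N1.{u}) (hinv : Inv.{u}) (hidt : Idt.{u, v})
    (hnam : ∀ {S : Type u} [Group S] [Finite S] [IsSimpleGroup S], (¬ ∀ a b : S, a * b = b * a) → Nam S)
    {G : Type u} {H : Type v} [Group G] [Finite G] [Group H] [Finite H] {n : OrdDiv.Grp} {X : Sh} {p f : ℕ}
    (hH : Good n X p f H) (hpow : PowDeg p H) (hsize : Nat.card H < 2 * (lb X (p ^ f) + 1) * pt p H ^ 2)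
    (hd : SameDeg G H) : IsQuasisimple G ∧ ¬ p ∣ Nat.card (Subgroup.center G) ∧
      Nat.card (G ⧸ Subgroup.center G) = Nat.card (H ⧸ Subgroup.center H) ∧
      Nat.card (Subgroup.center G) = Nat.card (Subgroup.center H) := by
  have hpf : Fact p.Prime := ⟨hH.real.hp⟩
  have hpk := hd.pkg (hH.pkg hpow hsize)
  have hcard := hd.card_eq
  have hsH := hH.quasi.2
  have hne : Nontrivial G := by
    have h1 : Nontrivial (H ⧸ Subgroup.center H) := IsSimpleGroup.toNontrivial
    have h2 : 1 < Nat.card H := by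
      have h3 : Nat.card H = Nat.card (H ⧸ Subgroup.center H) * Nat.card (Subgroup.center H) :=
        Subgroup.card_eq_card_quotient_mul_card_subgroup _
      have h4 : 1 < Nat.card (H ⧸ Subgroup.center H) := Finite.one_lt_card
      have h5 : 0 < Nat.card (Subgroup.center H) := Nat.card_pos
      rw [h3]
      calc 1 < Nat.card (H ⧸ Subgroup.center H) := h4
        _ ≤ _ := Nat.le_mul_of_pos_right _ h5
    rw [← hcard] at h2
    exact Finite.one_lt_card_iff_nontrivial.1 h2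
  obtain ⟨hq, hc, hpt⟩ := quasi_of_pkg hpk (fun hna => hN1 hna hpf.out)
    (fun M _ => cliff_of hinv hpk.perf hpk.st M) hne
  have hsG := hq.2
  have hG3 : Nat.card G = Nat.card (G ⧸ Subgroup.center G) * Nat.card (Subgroup.center G) :=
    Subgroup.card_eq_card_quotient_mul_card_subgroup _
  have hH3 : Nat.card H = Nat.card (H ⧸ Subgroup.center H) * Nat.card (Subgroup.center H) :=
    Subgroup.card_eq_card_quotient_mul_card_subgroup _
  have hM : Nat.card (G ⧸ Subgroup.center G) * Nat.card (Subgroup.center G) =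
      Nat.card (H ⧸ Subgroup.center H) * Nat.card (Subgroup.center H) := by rw [← hG3, ← hH3, hcard]
  have hid : Nat.card (G ⧸ Subgroup.center G) = Nat.card (H ⧸ Subgroup.center H) := by
    refine hidt hH.cl hH.real hq (hnam (not_comm_quot hq.1 _)) hc hH.dvd ?_ hM
    apply factorization_of_pt hpf.out
    change pt p (G ⧸ Subgroup.center G) = pt p (H ⧸ Subgroup.center H)
    rw [hpt, pt_quot hpf.out hH.cop, hd.pt_eq]
  refine ⟨hq, hc, hid, ?_⟩
  rw [hid] at hM
  exact Nat.eq_of_mul_eq_mul_left Nat.card_pos hM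

theorem good_case (hN1 : N1.{u}) (hinv : Inv.{u}) (hidt : Idt.{u, v}) (hart : Artin.{u, v})
    (hnam : ∀ {S : Type u} [Group S] [Finite S] [IsSimpleGroup S], (¬ ∀ a b : S, a * b = b * a) → Nam S)
    {G : Type u} {H : Type v} [Group G] [Finite G] [Group H] [Finite H] {n : OrdDiv.Grp} {X : Sh} {p f : ℕ}
    (hH : Good n X p f H) (hpow : PowDeg p H) (hsize : Nat.card H < 2 * (lb X (p ^ f) + 1) * pt p H ^ 2)
    (hd : SameDeg G H)
    (hex1 : ∀ (F : Type) [Field F] [Fintype F], Fintype.card F = 4 →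
      IsEmpty ((H ⧸ Subgroup.center H) ≃* Matrix.ProjectiveSpecialLinearGroup (Fin 3) F))
    (ha8 : ∀ (F : Type) [Field F] [Fintype F], Fintype.card F = 4 → IsQuasisimple G →
      (G ⧸ Subgroup.center G ≃* Matrix.ProjectiveSpecialLinearGroup (Fin 3) F) →
      ¬ p ∣ Nat.card (Subgroup.center G) → (H ⧸ Subgroup.center H ≃* ↥(alternatingGroup (Fin 8))) → False)
    (hbc : ∀ (F : Type) [Field F] [Fintype F] (n : ℕ), Odd (Fintype.card F) → 3 ≤ n → IsQuasisimple G →
      ¬ p ∣ Nat.card (Subgroup.center G) →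
      ((Nonempty (G ⧸ Subgroup.center G ≃* POmega F (quadFormOdd n F)) ∧
          Nonempty (H ⧸ Subgroup.center H ≃* PSp n F)) ∨
        (Nonempty (H ⧸ Subgroup.center H ≃* POmega F (quadFormOdd n F)) ∧
          Nonempty (G ⧸ Subgroup.center G ≃* PSp n F))) → False)
    (hD : ∀ (m : ℕ) (F : Type) [Field F] [Fintype F], Fintype.card F = p ^ f → Odd p → Even m → 4 ≤ m →
      IsQuasisimple G → (G ⧸ Subgroup.center G ≃* POmega F (quadFormPlus m F)) →
      (H ⧸ Subgroup.center H ≃* POmega F (quadFormPlus m F)) → Nat.card (Subgroup.center G) = 2 →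
      Nat.card (Subgroup.center H) = 2 → Nonempty (G ≃* H)) : Nonempty (G ≃* H) := by
  obtain ⟨hq, hc, hid, hz⟩ := good_card hN1 hinv hidt hnam hH hpow hsize hd
  have hsG := hq.2
  have hsH := hH.quasi.2
  rcases hart hid with ⟨⟨e⟩⟩ | h | h
  · have hGood : Good n X p f G :=
      { cl := hH.cl
        isLie := hH.isLie
        name := by
          exact name_congr e hH.cl hH.isLie hH.name
        real := by rw [hid]; exact hH.real
        lie := by
          exact CTwoTab.isLieTypeChar_congr e.symm hH.lie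
        quasi := hq
        cop := hc
        dvd := by rw [hz]; exact hH.dvd }
    by_cases hDD : ∀ m, X = .D m → Even m → Odd p → Nat.card (Subgroup.center H) ≠ 2
    · exact H124.DM.iso_of_good hGood hH e hz hDD
    · push Not at hDD
      obtain ⟨m, rfl, hev, hodd, h2⟩ := hDD
      have hl := hH.isLie
      have hn := hH.name
      have hm : 4 ≤ m := hH.real.ok
      cases hl with
      | oplus m p f =>
        obtain ⟨F, _, _, hF, ⟨e'⟩⟩ := hn
        exact hD m F hF hodd hev hm hq (e.trans e') e' (hz.trans h2) h2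
  · exfalso
    rcases h with ⟨-, F, _, _, hF, ⟨e⟩⟩ | ⟨⟨e'⟩, F, _, _, hF, ⟨e⟩⟩
    · exact (hex1 F hF).false e
    · exact ha8 F hF hq e hc e'
  · obtain ⟨F, _, _, n, ho, hn, h⟩ := h
    exact (hbc F n ho hn hq hc h).elim

end Cfsg.Agent.H700.DM
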