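import Cfsg.Agent.H700.DM.Defs
import Cfsg.Agent.H902.SameD
import Cfsg.Agent.OrdDiv.Table
import Cfsg.Agent.H520.LieT

/-!
# Classical groups are not Suzuki groups
-/

set_option autoImplicit false

namespace Cfsg.Agent.H700.DM

open Cfsg Cfsg.Agent.H902.Names
open Cfsg.Agent.H902.Art (Sh)

universe u

theorem not_suzuki {S : Type u} [Group S] [Finite S] {X : Sh} {p f : ℕ} (hX : IsCl X)
    (h : H902.Art.Real X p f (Nat.card S)) : ¬ (p = 2 ∧ Lie.IsoSuzuki S) := by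
  rintro ⟨rfl, hs⟩
  have h3 := H520.not_three_sz hs
  obtain ⟨F, _, _, m, hm, hF, ⟨e⟩⟩ := hs
  have hR : H902.Art.Real .Sz 2 (2 * m + 1) (Nat.card S) := by
    refine ⟨Nat.prime_two, by omega, ⟨rfl, odd_two_mul_add_one m, by omega⟩, ?_⟩
    rw [Nat.card_congr e.toEquiv, (OrdDiv.table.{0}).sz F m hm hF]
    change 1 * _ = (2 ^ (2 * m + 1)) ^ 2 * (_ * _)
    ring
  rcases H902.Art.same_char h hR with ⟨rfl, -⟩ | h1
  · exact hX
  · rw [h1] at h3
    exact h3 (by norm_num)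

end Cfsg.Agent.H700.DM
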