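import Cfsg.Agent.H700.DM.Final
import Cfsg.Agent.H700.DM.NotSz
import Cfsg.Agent.H355.DM.Inv
import Cfsg.Agent.H579.DM.PowDeg
import Cfsg.Agent.H615.DM.SqMain
import Cfsg.Agent.H342.DM.Num
import Cfsg.Agent.S3724

/-!
# The nonexceptional covers: final form
-/

set_option autoImplicit false

namespace Cfsg.Agent.H700.DM

open Cfsg Cfsg.Agent.H902.Names
open Cfsg.Agent.H902.Art (Sh)

universe u v

theorem n1 : N1.{u} := fun hna _ hp => H615.DM.two_mul_sq_le hna hp

theorem inv : Inv.{u} := by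
  intro G _ _ p _ hG M _ _ θ χ h1 h2 h3 h4 h5 h6
  exact H355.DM.invariant_case hG M h1 h2 h3 h4 h5 h6

theorem art : Artin.{u, v} := by
  intro G M _ _ _ _ _ _ h
  exact S3724.result h

theorem nam {S : Type u} [Group S] [Finite S] [IsSimpleGroup S] (hna : ¬ ∀ a b : S, a * b = b * a) : Nam S :=
  exists_nam OrdDiv.table (S0000.result) hna

theorem Good.powDeg {H : Type v} [Group H] [Finite H] {n : OrdDiv.Grp} {X : Sh} {p f : ℕ} (hH : Good n X p f H) :
    PowDeg p H := by
  have : Fact p.Prime := ⟨hH.real.hp⟩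
  exact H579.DM.PowDeg.powDeg_of_lie hH.quasi hH.cop hH.lie (not_suzuki hH.cl hH.real)

/-- **The nonexceptional covers**, from DM34 (`hidt`), DM35 (`ha8`, `hbc`) and the `D` rows (`hD`). -/
theorem good_final (hidt : Idt.{u, v}) {G : Type u} {H : Type v} [Group G] [Finite G] [Group H] [Finite H]
    {n : OrdDiv.Grp} {X : Sh} {p f : ℕ} (hH : Good n X p f H) (hd : SameDeg G H)
    (hex1 : ∀ (F : Type) [Field F] [Fintype F], Fintype.card F = 4 →
      IsEmpty ((H ⧸ Subgroup.center H) ≃* Matrix.ProjectiveSpecialLinearGroup (Fin 3) F))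
    (ha8 : ∀ (F : Type) [Field F] [Fintype F], Fintype.card F = 4 → IsQuasisimple G →
      (G ⧸ Subgroup.center G ≃* Matrix.ProjectiveSpecialLinearGroup (Fin 3) F) →
      ¬ p ∣ Nat.card (Subgroup.center G) → (H ⧸ Subgroup.center H ≃* ↥(alternatingGroup (Fin 8))) → False)
    (hbc : ∀ (F : Type) [Field F] [Fintype F] (n : ℕ), Odd (Fintype.card F) → 3 ≤ n → IsQuasisimple G →
      ¬ p ∣ Nat.card (Subgroup.center G) →
      ((Nonempty (G ⧸ Subgroup.center G ≃* POmega F (quadFormOdd n F)) ∧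
          Nonempty (H ⧸ Subgroup.center H ≃* PSp n F)) ∨
        (Nonempty (H ⧸ Subgroup.center H ≃* POmega F (quadFormOdd n F)) ∧
          Nonempty (G ⧸ Subgroup.center G ≃* PSp n F))) → False)
    (hD : ∀ (m : ℕ) (F : Type) [Field F] [Fintype F], Fintype.card F = p ^ f → Odd p → Even m → 4 ≤ m →
      IsQuasisimple G → (G ⧸ Subgroup.center G ≃* POmega F (quadFormPlus m F)) →
      (H ⧸ Subgroup.center H ≃* POmega F (quadFormPlus m F)) → Nat.card (Subgroup.center G) = 2 →
      Nat.card (Subgroup.center H) = 2 → Nonempty (G ≃* H)) : Nonempty (G ≃* H) :=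
  good_case n1 inv hidt art nam hH hH.powDeg (H342.DM.Good.size hH) hd hex1 ha8 hbc hD

end Cfsg.Agent.H700.DM
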