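import Cfsg.Agent.H700.DM.Basic
import Cfsg.Agent.H677.CodPrime
import Cfsg.Agent.H168.Rad

/-!
# Theorem X: the maximal normal subgroups of `G` are central
-/

set_option autoImplicit false

namespace Cfsg.Agent.H700.DM

open Cfsg

universe u v

variable {G : Type u} [Group G] [Finite G]

/-- a small normal subgroup is central -/
theorem le_center {B : ℕ} (hlow : LowDeg B G) (hG : Group.IsPerfect G) (M : Subgroup G) [M.Normal]
    (hM : Nat.card M < B + 1) : M ≤ Subgroup.center G := by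
  intro x hx
  by_contra hc
  have h1 : Subgroup.centralizer ({x} : Set G) ≠ ⊤ := by
    intro h2
    apply hc
    rw [Subgroup.mem_center_iff]
    intro g
    have h3 : g ∈ Subgroup.centralizer ({x} : Set G) := h2 ▸ Subgroup.mem_top g
    exact Subgroup.mem_centralizer_singleton_iff.1 h3
  have h2 := hlow.index hG h1
  have h3 : (Subgroup.centralizer ({x} : Set G)).index ≤ Nat.card M := by
    have h4 : Nat.card (MulAction.orbit (ConjAct G) x) = (MulAction.stabilizer (ConjAct G) x).index :=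
      (MulAction.index_stabilizer (ConjAct G) x).symm ▸ rfl
    have h5 : (MulAction.stabilizer (ConjAct G) x).index = (Subgroup.centralizer ({x} : Set G)).index := by
      rw [ConjAct.stabilizer_eq_centralizer]
      rfl
    rw [← h5, ← h4]
    have h6 : MulAction.orbit (ConjAct G) x ⊆ (M : Set G) := by
      rintro _ ⟨g, rfl⟩
      change ConjAct.ofConjAct g * x * (ConjAct.ofConjAct g)⁻¹ ∈ M
      exact Subgroup.Normal.conj_mem inferInstance x hx _
    exact Nat.card_mono (Set.toFinite _) h6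
  omega

theorem pt_mul {p : ℕ} (M : Subgroup G) [M.Normal] : pt p G = pt p M * pt p (G ⧸ M) := by
  unfold pt
  rw [← pow_add]
  congr 1
  have h : Nat.card G = Nat.card (G ⧸ M) * Nat.card M := Subgroup.card_eq_card_quotient_mul_card_subgroup M
  rw [h, Nat.factorization_mul Nat.card_pos.ne' Nat.card_pos.ne', Finsupp.add_apply, add_comm]

theorem not_dvd_of_pt_one {p : ℕ} (hp : p.Prime) {H : Type*} [Group H] [Finite H] (h : pt p H = 1) :
    ¬ p ∣ Nat.card H := by
  intro h2
  have h3 := (hp.dvd_iff_one_le_factorization Nat.card_pos.ne').1 h2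
  have h4 : p ^ 1 ≤ pt p H := Nat.pow_le_pow_right hp.pos h3
  rw [h, pow_one] at h4
  have := hp.two_le
  omega

/-- **Theorem X.** -/
theorem theoremX {p B : ℕ} [hp : Fact p.Prime] (h : Pkg p B G) (M : Subgroup G) [M.Normal] [IsSimpleGroup (G ⧸ M)]
    (hN1 : 2 * pt p (G ⧸ M) ^ 2 ≤ Nat.card (G ⧸ M))
    (hcl : ∃ T : Subgroup G, M ≤ T ∧
      T.index * Nat.card (G ⧸ M) * pt p G ^ 2 ≤ Nat.card G * pt p (G ⧸ M) ^ 2 ∧
        (T = ⊤ → HasDeg (pt p (G ⧸ M)) G)) :
    M ≤ Subgroup.center G ∧ ¬ p ∣ Nat.card M ∧ pt p (G ⧸ M) = pt p G := by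
  obtain ⟨T, -, hT, hTop⟩ := hcl
  have hpp : 0 < p := hp.out.pos
  have hg : 0 < pt p G := pow_pos hpp _
  have hk : 0 < pt p (G ⧸ M) := pow_pos hpp _
  have hperf := h.perf
  have hlt : T.index * Nat.card (G ⧸ M) < 2 * (B + 1) * pt p (G ⧸ M) ^ 2 := by
    have h1 : T.index * Nat.card (G ⧸ M) * pt p G ^ 2 < (2 * (B + 1) * pt p (G ⧸ M) ^ 2) * pt p G ^ 2 := by
      calc _ ≤ _ := hT
        _ < 2 * (B + 1) * pt p G ^ 2 * pt p (G ⧸ M) ^ 2 := Nat.mul_lt_mul_of_pos_right h.size (by positivity)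
        _ = _ := by ring
    exact Nat.lt_of_mul_lt_mul_right h1
  have hT1 : T = ⊤ := by
    by_contra hc
    have h1 := h.low.index hperf hc
    have h2 : (B + 1) * Nat.card (G ⧸ M) ≤ T.index * Nat.card (G ⧸ M) := Nat.mul_le_mul_right _ h1
    have h3 : (B + 1) * (2 * pt p (G ⧸ M) ^ 2) ≤ (B + 1) * Nat.card (G ⧸ M) := Nat.mul_le_mul_left _ hN1
    have h4 : (B + 1) * (2 * pt p (G ⧸ M) ^ 2) = 2 * (B + 1) * pt p (G ⧸ M) ^ 2 := by ring
    omega
  rw [hT1, Subgroup.index_top, one_mul] at hlt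
  have hns : ¬ Group.IsSolvable (G ⧸ M) := by
    intro hs
    have : Nontrivial (G ⧸ M) := IsSimpleGroup.toNontrivial
    have h1 : Group.IsPerfect (G ⧸ M) := Group.IsPerfect.ofSurjective (f := QuotientGroup.mk' M) (QuotientGroup.mk'_surjective M)
    exact Group.IsPerfect.not_isSolvable (G ⧸ M) hs
  have h60 := H168.NoSolv.sixty_le hns
  have hdeg := hTop hT1
  have hpk : pt p (G ⧸ M) = pt p G := by
    rcases powDeg_iff.1 h.pow _ hdeg with h1 | h1
    · exfalso
      have h1' : pt p (G ⧸ M) = 1 := h1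
      rw [h1'] at hlt
      have hlow : LowDeg B (G ⧸ M) := h.low.quotient (QuotientGroup.mk'_surjective M)
      have hK : Group.IsPerfect (G ⧸ M) :=
        Group.IsPerfect.ofSurjective (f := QuotientGroup.mk' M) (QuotientGroup.mk'_surjective M)
      have : Nontrivial (G ⧸ M) := IsSimpleGroup.toNontrivial
      obtain ⟨χ, hχ, -, -⟩ := H78.CodB.exists_constituent (X := (⊥ : Subgroup (G ⧸ M))) bot_ne_top
      have h2 := H677.CodPrime.charDegree_sq_lt χ
      rcases hlow χ with h3 | h3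
      · exact hχ (eq_one_of_degree hK h3)
      · have h4 : B ^ 2 ≤ charDegree (χ : (G ⧸ M) → ℂ) ^ 2 := Nat.pow_le_pow_left h3 2
        have h5 : B ≤ 2 := by nlinarith
        omega
    · exact h1
  have hmul := pt_mul (p := p) M
  rw [hpk] at hmul
  have hM1 : pt p M = 1 := by
    have : pt p M * pt p G = 1 * pt p G := by rw [one_mul]; exact hmul.symm
    exact Nat.eq_of_mul_eq_mul_right hg this
  refine ⟨le_center h.low hperf M ?_, not_dvd_of_pt_one hp.out hM1, hpk⟩
  have hcard : Nat.card G = Nat.card (G ⧸ M) * Nat.card M := Subgroup.card_eq_card_quotient_mul_card_subgroup M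
  have h1 := h.size
  rw [hcard, ← hpk] at h1
  have h2 : 2 * pt p (G ⧸ M) ^ 2 * Nat.card M ≤ Nat.card (G ⧸ M) * Nat.card M := Nat.mul_le_mul_right _ hN1
  have h3 : 2 * pt p (G ⧸ M) ^ 2 * Nat.card M < 2 * pt p (G ⧸ M) ^ 2 * (B + 1) := by
    calc _ ≤ _ := h2
      _ < _ := h1
      _ = _ := by ring
  exact Nat.lt_of_mul_lt_mul_left h3

end Cfsg.Agent.H700.DM
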