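import Cfsg.Agent.H700.DM.Main
import Cfsg.Agent.H438.MaxOrders

/-!
# `G` is quasisimple
-/

set_option autoImplicit false

namespace Cfsg.Agent.H700.DM

open Cfsg

universe u v

variable {G : Type u} [Group G] [Finite G]

theorem not_comm_quot (hG : Group.IsPerfect G) (M : Subgroup G) [M.Normal] [hs : IsSimpleGroup (G ⧸ M)] :
    ¬ ∀ a b : G ⧸ M, a * b = b * a := by
  intro hc
  have h1 : Group.IsPerfect (G ⧸ M) :=
    Group.IsPerfect.ofSurjective (f := QuotientGroup.mk' M) (QuotientGroup.mk'_surjective M)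
  have : Nontrivial (G ⧸ M) := IsSimpleGroup.toNontrivial
  let _ : CommGroup (G ⧸ M) := { (inferInstance : Group (G ⧸ M)) with mul_comm := hc }
  exact Group.IsPerfect.not_isSolvable (G ⧸ M) (inferInstance : Group.IsSolvable (G ⧸ M))

/-- a central maximal normal subgroup of a perfect group is the centre -/
theorem eq_center (hG : Group.IsPerfect G) (M : Subgroup G) [M.Normal] [hs : IsSimpleGroup (G ⧸ M)]
    (h : M ≤ Subgroup.center G) : M = Subgroup.center G := by
  refine le_antisymm h ?_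
  have hnc := not_comm_quot hG M
  have h1 : ((Subgroup.center G).map (QuotientGroup.mk' M)).Normal :=
    Subgroup.Normal.map inferInstance _ (QuotientGroup.mk'_surjective M)
  rcases h1.eq_bot_or_eq_top with h2 | h2
  · intro x hx
    have h3 : QuotientGroup.mk' M x ∈ (Subgroup.center G).map (QuotientGroup.mk' M) := ⟨x, hx, rfl⟩
    rw [h2, Subgroup.mem_bot] at h3
    exact (QuotientGroup.eq_one_iff x).1 h3
  · exfalso
    apply hnc
    intro a b
    have ha : a ∈ (Subgroup.center G).map (QuotientGroup.mk' M) := h2 ▸ Subgroup.mem_top a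
    obtain ⟨x, hx, rfl⟩ := ha
    obtain ⟨y, rfl⟩ := QuotientGroup.mk'_surjective M b
    rw [← map_mul, ← map_mul, Subgroup.mem_center_iff.1 hx y]

/-- **`G` is quasisimple.** -/
theorem quasi_of_pkg {p B : ℕ} [hp : Fact p.Prime] (h : Pkg p B G)
    (hN1 : ∀ {S : Type u} [Group S] [Finite S] [IsSimpleGroup S], (¬ ∀ a b : S, a * b = b * a) →
      2 * pt p S ^ 2 ≤ Nat.card S)
    (hcl : ∀ (M : Subgroup G) [M.Normal], ∃ T : Subgroup G, M ≤ T ∧
      T.index * Nat.card (G ⧸ M) * pt p G ^ 2 ≤ Nat.card G * pt p (G ⧸ M) ^ 2 ∧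
        (T = ⊤ → HasDeg (pt p (G ⧸ M)) G)) (hne : Nontrivial G) :
    IsQuasisimple G ∧ ¬ p ∣ Nat.card (Subgroup.center G) ∧ pt p (G ⧸ Subgroup.center G) = pt p G := by
  obtain ⟨M, hM, hs⟩ := H438.MaxOrders.exists_simple_quotient G
  obtain ⟨h1, h2, h3⟩ := theoremX h M (hN1 (not_comm_quot h.perf M)) (hcl M)
  have h4 := eq_center h.perf M h1
  subst h4
  exact ⟨⟨h.perf, hs⟩, h2, h3⟩

end Cfsg.Agent.H700.DM
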